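import Cfsg.Agent.H775.L13.Sl
import Cfsg.Agent.H451.L7.Dim
import Cfsg.Agent.H942.L7.Val7

/-!
# S5919, the row `PSL₂(13)`, task NUM13: Brauer character values and dimensions of fixed spaces
-/

set_option autoImplicit false
set_option linter.unusedSectionVars false
set_option maxRecDepth 100000

namespace Cfsg.Agent.H775.L13

open Cfsg Cfsg.Lie Module
open Cfsg.Agent.H540.E8C.L13 Cfsg.Agent.H540.E8C.End
open Cfsg.Agent.H657 IsLocalRing
open Cfsg.Agent.H942.E8Alc Cfsg.Agent.H942.Common Cfsg.Agent.H942.E8Val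
open Cfsg.Agent.H944.RootVals Cfsg.Agent.H942.ValsChar

section dim

variable {M : Ideal AlgInt} {V : ValuationSubring ℂ} [CharP (ResidueField V) 3]

theorem dimP (hM : IsPModular 3 M) (hV : Above M V) (F : Q →* E) {ι : Type*} [Fintype ι] (e : ι → Q)
    (he : Function.Injective e) (P : Q → Prop) (hP1 : P 1) (hPm : ∀ a b, P a → P b → P (a * b))
    (hr : ∀ g, P g ↔ ∃ i, e i = g) (hc : (Fintype.card ι).Coprime 3) :
    ∑ i, bc 3 (adj V F) (e i) = (Fintype.card ι : ℂ) * (finrank (ZMod 3) ↥(fixP (rp F) P) : ℂ) := by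
  let L : List Q := Finset.univ.toList.map e
  have hmem : ∀ g, g ∈ L ↔ P g := by
    intro g
    rw [hr]
    simp [L]
  have hlen : L.length = Fintype.card ι := by
    simp [L]
  have key := Cfsg.Agent.H451.L7.dim M V hM hV Q F L ((Finset.nodup_toList _).map he) ((hmem 1).2 hP1)
    (fun a ha b hb => (hmem _).2 (hPm a b ((hmem a).1 ha) ((hmem b).1 hb))) (by rw [hlen]; exact hc)
  have hfix : fixP (rp F) P = Cfsg.Agent.H942.L7.fixL F L := by
    ext v
    exact ⟨fun h g hg => h g ((hmem g).1 hg), fun h g hg => h g ((hmem g).2 hg)⟩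
  rw [hfix, ← hlen, ← key]
  simp only [L, List.map_map]
  exact (Finset.sum_map_toList _ _).symm

end dim

section vals

variable {V : ValuationSubring ℂ} [CharP (ResidueField V) 3] {F : Q →* E}

theorem bc_congr {g g' : Q} (h : F g = F g') : bc 3 (adj V F) g = bc 3 (adj V F) g' := by
  have : adj V F g = adj V F g' := by
    unfold adj
    rw [matRep_apply, matRep_apply, MonoidHom.comp_apply, MonoidHom.comp_apply, h]
  unfold bc
  rw [this]

theorem F_neg (hF : ∀ g, F g = 1 ↔ g = 1 ∨ g = -1) (g : Q) : F (-g) = F g := by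
  have h1 : F (-1) = 1 := (hF _).2 (Or.inr rfl)
  have h2 : -g = (-1) * g := (neg_one_mul g).symm
  rw [h2, map_mul, h1, one_mul]

theorem bc_neg (hF : ∀ g, F g = 1 ↔ g = 1 ∨ g = -1) (g : Q) : bc 3 (adj V F) (-g) = bc 3 (adj V F) g :=
  bc_congr (F_neg hF g)

theorem bc_of_conj {g g' h : Q} (e : h * g * h⁻¹ = g') : bc 3 (adj V F) g = bc 3 (adj V F) g' := by
  rw [← e, Cfsg.Agent.H657.bc_conj]

theorem bc_one : bc 3 (adj V F) (1 : Q) = 248 := by
  obtain ⟨t₁, t₂, t₄, -, h1, -, -, h2, -, -⟩ := val8 V F (g := 1) (one_pow 8)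
  rw [h1, h2.1 (map_one F)]
  norm_num

theorem L8_two : ∀ x ∈ L8, x.2.1 = 248 → x.2.2 = 248 → x.1 ≠ 248 → x.1 = -8 ∨ x.1 = 24 := by decide

theorem exists_t2 (hF : ∀ g, F g = 1 ↔ g = 1 ∨ g = -1) :
    ∃ t2 : ℤ, (t2 = -8 ∨ t2 = 24) ∧ bc 3 (adj V F) tt = t2 := by
  obtain ⟨t₁, t₂, t₄, hL, h1, -, -, h2, h3, h4⟩ := val8 V F (g := tt) (by decide +kernel)
  have e2 : t₂ = 248 := h3.1 ((hF _).2 (Or.inr (by decide +kernel)))
  have e4 : t₄ = 248 := h4.1 ((hF _).2 (Or.inl (by decide +kernel)))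
  have e1 : t₁ ≠ 248 := by
    intro h
    have := (hF _).1 (h2.2 h)
    revert this
    decide +kernel
  exact ⟨t₁, L8_two _ hL e2 e4 e1, h1⟩

theorem exists_t7 (hF : ∀ g, F g = 1 ↔ g = 1 ∨ g = -1) :
    ∃ t7 : ℤ, (t7 = 3 ∨ t7 = 52) ∧ ∀ i : Fin 14, (i : ℕ) ≠ 0 → (i : ℕ) ≠ 7 → bc 3 (adj V F) (c7 ^ (i : ℕ)) = t7 := by
  obtain ⟨t, ht, h⟩ := Cfsg.Agent.H942.L7.val7 V F (g := c7 ^ 2) (by decide +kernel) (by
    intro h
    have := (hF _).1 h
    revert this
    decide +kernel)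
  refine ⟨t, ht, fun i h0 h7 => ?_⟩
  have key : ∀ i : Fin 14, (i : ℕ) ≠ 0 → (i : ℕ) ≠ 7 → ∃ d : Fin 7, (d : ℕ) ≠ 0 ∧
      (c7 ^ (i : ℕ) = (c7 ^ 2) ^ (d : ℕ) ∨ c7 ^ (i : ℕ) = -(c7 ^ 2) ^ (d : ℕ)) := by decide +kernel
  obtain ⟨d, hd, he⟩ := key i h0 h7
  have hd' : ¬ 7 ∣ (d : ℕ) := by
    have := d.2
    omega
  rcases he with he | he
  · rw [he]; exact h _ hd'
  · rw [he, bc_neg hF]; exact h _ hd'

theorem conj14 : ∀ i : Fin 14, ∃ j : Fin 14, c7 ^ (j : ℕ) * (c7 ^ (i : ℕ) * ww) * (c7 ^ (j : ℕ))⁻¹ = ww ∨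
    c7 ^ (j : ℕ) * (c7 ^ (i : ℕ) * ww) * (c7 ^ (j : ℕ))⁻¹ = -ww := by decide +kernel

theorem conj52 : ∀ i : Fin 13, ∃ j : Fin 13, uu 1 ^ (j : ℕ) * (uu 1 ^ (i : ℕ) * tt) * (uu 1 ^ (j : ℕ))⁻¹ = tt := by
  decide +kernel

theorem mul_tt2 (g : Q) : g * tt ^ 2 = -g := by
  have : tt ^ 2 = -1 := by decide +kernel
  rw [this, mul_neg, mul_one]

theorem mul_tt3 (g : Q) : g * tt ^ 3 = -(g * tt) := by
  have : tt ^ 3 = -tt := by decide +kernel
  rw [this, mul_neg]

def h1 : Q := ⟨!![1, 8; 4, 7], by decide⟩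
def h2 : Q := ⟨!![1, 1; 6, 7], by decide⟩

variable (hF : ∀ g, F g = 1 ↔ g = 1 ∨ g = -1) {t2 t7 : ℤ} (h2' : bc 3 (adj V F) tt = t2)

include h2' in
theorem bc_ww : bc 3 (adj V F) ww = t2 := by
  rw [← h2']
  exact bc_of_conj (h := h1) (by decide +kernel)

include h2' in
theorem bc_ttww : bc 3 (adj V F) (tt * ww) = t2 := by
  rw [← h2']
  exact bc_of_conj (h := h2) (by decide +kernel)

include h2' hF in
theorem bc_c7ww (i : Fin 14) : bc 3 (adj V F) (c7 ^ (i : ℕ) * ww) = t2 := by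
  obtain ⟨j, hj⟩ := conj14 i
  rw [← bc_ww h2']
  rcases hj with hj | hj
  · exact bc_of_conj hj
  · rw [bc_of_conj hj, bc_neg hF]

include h2' in
theorem bc_uutt (i : Fin 13) : bc 3 (adj V F) (uu 1 ^ (i : ℕ) * tt) = t2 := by
  obtain ⟨j, hj⟩ := conj52 i
  rw [← h2']
  exact bc_of_conj hj

include h2' hF in
theorem sum14 (h7 : ∀ i : Fin 14, (i : ℕ) ≠ 0 → (i : ℕ) ≠ 7 → bc 3 (adj V F) (c7 ^ (i : ℕ)) = t7) :
    ∑ p, bc 3 (adj V F) (el c7 ww 14 2 p) = 2 * 248 + 12 * t7 + 14 * t2 := by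
  rw [Fintype.sum_prod_type_right, Fin.sum_univ_two]
  have e1 : ∀ i : Fin 14, bc 3 (adj V F) (el c7 ww 14 2 (i, 0)) =
      if (i : ℕ) = 0 ∨ (i : ℕ) = 7 then 248 else (t7 : ℂ) := by
    intro i
    show bc 3 (adj V F) (c7 ^ (i : ℕ) * ww ^ 0) = _
    rw [pow_zero, mul_one]
    split_ifs with h
    · rcases h with h | h
      · rw [h, pow_zero, bc_one]
      · rw [h, show c7 ^ 7 = -1 by decide +kernel, bc_neg hF, bc_one]
    · push Not at h
      exact h7 i h.1 h.2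
  have e2 : ∀ i : Fin 14, bc 3 (adj V F) (el c7 ww 14 2 (i, 1)) = t2 := by
    intro i
    show bc 3 (adj V F) (c7 ^ (i : ℕ) * ww ^ 1) = _
    rw [pow_one, bc_c7ww hF h2']
  rw [Finset.sum_congr rfl fun i _ => e1 i, Finset.sum_congr rfl fun i _ => e2 i, Finset.sum_const,
    Finset.card_univ, Fintype.card_fin, nsmul_eq_mul]
  simp [Fin.sum_univ_succ]
  ring

include h2' hF in
theorem sum8 : ∑ p, bc 3 (adj V F) (el tt ww 4 2 p) = 2 * 248 + 6 * t2 := by
  rw [Fintype.sum_prod_type_right, Fin.sum_univ_two, Fin.sum_univ_four, Fin.sum_univ_four]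
  have a0 : el tt ww 4 2 (0, 0) = 1 := by decide +kernel
  have a1 : el tt ww 4 2 (1, 0) = tt := by decide +kernel
  have a2 : el tt ww 4 2 (2, 0) = -1 := by decide +kernel
  have a3 : el tt ww 4 2 (3, 0) = -tt := by decide +kernel
  have b0 : el tt ww 4 2 (0, 1) = ww := by decide +kernel
  have b1 : el tt ww 4 2 (1, 1) = tt * ww := by decide +kernel
  have b2 : el tt ww 4 2 (2, 1) = -ww := by decide +kernel
  have b3 : el tt ww 4 2 (3, 1) = -(tt * ww) := by decide +kernel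
  rw [a0, a1, a2, a3, b0, b1, b2, b3, bc_neg hF, bc_neg hF, bc_neg hF, bc_neg hF, bc_one, h2', bc_ww h2', bc_ttww h2']
  ring

include h2' hF in
theorem sum52 : ∑ p, bc 3 (adj V F) (el (uu 1) tt 13 4 p) =
    2 * ∑ i : Fin 13, bc 3 (adj V F) (uu 1 ^ (i : ℕ)) + 26 * t2 := by
  rw [Fintype.sum_prod_type_right, Fin.sum_univ_four]
  have e0 : ∀ i : Fin 13, bc 3 (adj V F) (el (uu 1) tt 13 4 (i, 0)) = bc 3 (adj V F) (uu 1 ^ (i : ℕ)) := by
    intro i
    show bc 3 (adj V F) (uu 1 ^ (i : ℕ) * tt ^ 0) = _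
    rw [pow_zero, mul_one]
  have e1 : ∀ i : Fin 13, bc 3 (adj V F) (el (uu 1) tt 13 4 (i, 1)) = t2 := by
    intro i
    show bc 3 (adj V F) (uu 1 ^ (i : ℕ) * tt ^ 1) = _
    rw [pow_one, bc_uutt h2']
  have e2 : ∀ i : Fin 13, bc 3 (adj V F) (el (uu 1) tt 13 4 (i, 2)) = bc 3 (adj V F) (uu 1 ^ (i : ℕ)) := by
    intro i
    show bc 3 (adj V F) (uu 1 ^ (i : ℕ) * tt ^ 2) = _
    rw [mul_tt2, bc_neg hF]
  have e3 : ∀ i : Fin 13, bc 3 (adj V F) (el (uu 1) tt 13 4 (i, 3)) = t2 := by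
    intro i
    show bc 3 (adj V F) (uu 1 ^ (i : ℕ) * tt ^ 3) = _
    rw [mul_tt3, bc_neg hF, bc_uutt h2']
  rw [Finset.sum_congr rfl fun i _ => e0 i, Finset.sum_congr rfl fun i _ => e1 i, Finset.sum_congr rfl fun i _ => e2 i,
    Finset.sum_congr rfl fun i _ => e3 i, Finset.sum_const, Finset.card_univ, Fintype.card_fin, nsmul_eq_mul]
  push_cast
  ring

end vals

section spec

variable {V : ValuationSubring ℂ} [CharP (ResidueField V) 3] {F : Q →* E}

theorem geom13 {ξ : ℂ} (hξ : IsPrimitiveRoot ξ 13) (a : ZMod 13) :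
    ∑ d ∈ Finset.range 13, ξ ^ (((d : ZMod 13) * a).val) = 13 * (((if a = 0 then 1 else 0 : ℤ)) : ℂ) := by
  by_cases ha : a = 0
  · subst ha
    simp
  · rw [if_neg ha]
    have h0 : ∀ d ∈ Finset.range 13, ξ ^ (((d : ZMod 13) * a).val) = (ξ ^ a.val) ^ d := by
      intro d hd
      have hd' : d < 13 := Finset.mem_range.1 hd
      rw [ZMod.val_mul, ZMod.val_natCast, Nat.mod_eq_of_lt hd', ← pow_mul, mul_comm a.val d]
      conv_rhs => rw [pow_eq_pow_mod _ hξ.pow_eq_one]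
    rw [Finset.sum_congr rfl h0]
    have h1 : a.val.Coprime 13 := by
      have h2 : a.val < 13 := ZMod.val_lt a
      have h3 : a.val ≠ 0 := fun h => ha ((ZMod.val_eq_zero a).1 h)
      rw [Nat.coprime_comm, Nat.Prime.coprime_iff_not_dvd (by norm_num)]
      intro h
      exact h3 (Nat.eq_zero_of_dvd_of_lt h h2)
    rw [(hξ.pow_of_coprime _ h1).geom_sum_eq_zero (by norm_num)]
    simp

theorem sumU {Y : List ℕ} {ξ : ℂ} (h : Spec V F (uu 1) 13 Y ξ) :
    ∑ i : Fin 13, bc 3 (adj V F) (uu 1 ^ (i : ℕ)) = 13 * (8 + 2 * (cnt 13 1 0 Y : ℂ)) := by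
  rw [Fin.sum_univ_eq_sum_range (fun i => bc 3 (adj V F) (uu 1 ^ i)) 13]
  rw [Finset.sum_congr rfl fun d _ => h.bc d, Finset.sum_add_distrib, Finset.sum_const, Finset.card_range, nsmul_eq_mul]
  have e1 : ∀ m : Multiset (ZMod 13), ∑ d ∈ Finset.range 13, (m.map fun a => ξ ^ (((d : ZMod 13) * a).val)).sum =
      13 * (((m.map fun a => if a = 0 then (1 : ℤ) else 0).sum : ℤ) : ℂ) := by
    intro m
    induction m using Multiset.induction_on with
    | empty => simp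
    | cons a s ih =>
      simp only [Multiset.map_cons, Multiset.sum_cons]
      rw [Finset.sum_add_distrib, ih, geom13 h.prim]
      push_cast
      ring
  rw [e1]
  have e2 := sum_ind (N := 13) 1 Y
  simp only [Nat.cast_one, one_mul] at e2
  rw [e2]
  push_cast
  ring

end spec

/-! ### the space `W2` -/

section W2

variable {F : Q →* E}

theorem tt_uu (a : ZMod 13) : tt * uu a = uu (-a) * tt := by
  revert a
  decide +kernel

theorem uu_tt (a : ZMod 13) : uu a * tt = tt * uu (-a) := by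
  revert a
  decide +kernel

theorem mem_fixPM {x y : Q} {v : LL} : v ∈ fixP (rp F) (PM x y) ↔ rp F x v = v ∧ rp F y v = v := by
  constructor
  · intro h
    exact ⟨h x ⟨1, 0, by simp⟩, h y ⟨0, 1, by simp⟩⟩
  · rintro ⟨h1, h2⟩ g ⟨i, j, rfl⟩
    have e1 : ∀ i : ℕ, rp F (x ^ i) v = v := by
      intro i
      induction i with
      | zero => rw [pow_zero, map_one]; rfl
      | succ i ih =>
        rw [pow_succ, map_mul, Module.End.mul_apply, h1, ih]
    have e2 : ∀ i : ℕ, rp F (y ^ i) v = v := by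
      intro i
      induction i with
      | zero => rw [pow_zero, map_one]; rfl
      | succ i ih =>
        rw [pow_succ, map_mul, Module.End.mul_apply, h2, ih]
    rw [map_mul, Module.End.mul_apply, e2, e1]

theorem mem_fixPU {v : LL} : v ∈ fixP (rp F) PU ↔ rp F (uu 1) v = v := by
  have h : fixP (rp F) PU = fixP (rp F) (PM (uu 1) 1) := by
    ext v
    exact ⟨fun h g hg => h g (PU_iff.2 hg), fun h g hg => h g (PU_iff.1 hg)⟩
  rw [h, mem_fixPM]
  constructor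
  · exact fun h => h.1
  · exact fun h => ⟨h, by rw [map_one]; rfl⟩

theorem fixPV4 : fixP (rp F) PV4 = fixP (rp F) (PM tt ww) := by
  ext v
  rw [mem_fixPM]
  constructor
  · intro h
    exact ⟨h _ (Or.inl rfl), h _ (Or.inr rfl)⟩
  · rintro ⟨h1, h2⟩ g (rfl | rfl)
    · exact h1
    · exact h2

theorem three_smul' (v : LL) : v + v + v = 0 := by
  funext i
  exact (by decide : ∀ x : ZMod 3, x + x + x = 0) _

theorem finrank_W2 (hF : ∀ g, F g = 1 ↔ g = 1 ∨ g = -1) :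
    finrank (ZMod 3) ↥(W2 (rp F)) + finrank (ZMod 3) ↥(fixP (rp F) (PM (uu 1) tt)) =
      finrank (ZMod 3) ↥(fixP (rp F) PU) := by
  have hsq : ∀ v, rp F tt (rp F tt v) = v := by
    intro v
    rw [← Module.End.mul_apply, ← map_mul, show tt * tt = -1 by decide +kernel]
    show ac (F (-1)) v = v
    rw [(hF _).2 (Or.inr rfl), ac_one]
  have hW : ∀ v, v ∈ W2 (rp F) ↔ v ∈ fixP (rp F) PU ∧ rp F tt v = -v := by
    intro v
    constructor
    · intro h
      exact ⟨fun g ⟨a, ha⟩ => by rw [ha]; exact h.1 a, h.2⟩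
    · rintro ⟨h1, h2⟩
      exact ⟨fun a => h1 _ ⟨a, rfl⟩, h2⟩
  have hD : ∀ v, v ∈ fixP (rp F) (PM (uu 1) tt) ↔ v ∈ fixP (rp F) PU ∧ rp F tt v = v := by
    intro v
    rw [mem_fixPM, mem_fixPU]
  have hTU : ∀ v ∈ fixP (rp F) PU, rp F tt v ∈ fixP (rp F) PU := by
    rintro v hv _ ⟨a, rfl⟩
    rw [← Module.End.mul_apply, ← map_mul, uu_tt, map_mul, Module.End.mul_apply, hv _ ⟨_, rfl⟩]
  have hinf : W2 (rp F) ⊓ fixP (rp F) (PM (uu 1) tt) = ⊥ := by
    rw [eq_bot_iff]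
    rintro v ⟨h1, h2⟩
    have e1 := ((hW v).1 h1).2
    have e2 := ((hD v).1 h2).2
    rw [e1] at e2
    have e3 : v + v = 0 := by
      nth_rewrite 1 [← e2]
      exact neg_add_cancel v
    have := three_smul' v
    rw [e3, zero_add] at this
    exact this
  have hsup : W2 (rp F) ⊔ fixP (rp F) (PM (uu 1) tt) = fixP (rp F) PU := by
    apply le_antisymm
    · exact sup_le (fun v hv => ((hW v).1 hv).1) (fun v hv => ((hD v).1 hv).1)
    · intro v hv
      have e1 : -(v - rp F tt v) ∈ W2 (rp F) := by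
        rw [hW]
        refine ⟨neg_mem (sub_mem hv (hTU v hv)), ?_⟩
        rw [map_neg, map_sub, hsq]
        abel
      have e2 : -(v + rp F tt v) ∈ fixP (rp F) (PM (uu 1) tt) := by
        rw [hD]
        refine ⟨neg_mem (add_mem hv (hTU v hv)), ?_⟩
        rw [map_neg, map_add, hsq]
        abel
      have e3 : v = -(v - rp F tt v) + -(v + rp F tt v) := by
        have := three_smul' v
        have h4 : v = -(v + v) := by
          rw [eq_neg_iff_add_eq_zero, ← add_assoc, this]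
        conv_lhs => rw [h4]
        abel
      rw [e3]
      exact Submodule.add_mem_sup e1 e2
  have := Submodule.finrank_sup_add_finrank_inf_eq (W2 (rp F)) (fixP (rp F) (PM (uu 1) tt))
  rw [hinf, finrank_bot, add_zero, hsup] at this
  exact this.symm

end W2

/-- **Task NUM13.** -/
theorem num13 : Num13 := by
  intro F hF
  obtain ⟨M, V, hM, hV, hchar⟩ := exists_V
  obtain ⟨t2, ht2, h2⟩ := exists_t2 (V := V) hF
  obtain ⟨t7, ht7, h7⟩ := exists_t7 (V := V) hF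
  -- the dimensions
  have d14 := dimP hM hV F _ inj14 P14 P14_one (fun a b => P14_mul) (fun g => P14_iff.trans (PM_iff meta14))
    (by decide)
  have d8 := dimP hM hV F _ inj8 (PM tt ww) PM_one (fun a b => PM_mul meta8) (fun g => PM_iff meta8)
    (by decide)
  have d52 := dimP hM hV F _ inj52 (PM (uu 1) tt) PM_one (fun a b => PM_mul meta52) (fun g => PM_iff meta52)
    (by decide)
  have d13 := dimP hM hV F _ inj13 PU (PU_iff.2 PM_one) (fun a b ha hb => PU_iff.2 (PM_mul meta13 (PU_iff.1 ha)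
    (PU_iff.1 hb))) (fun g => PU_iff.trans (PM_iff meta13)) (by decide)
  have hs13 : ∑ p, bc 3 (adj V F) (el (uu 1) 1 13 1 p) = ∑ i : Fin 13, bc 3 (adj V F) (uu 1 ^ (i : ℕ)) := by
    rw [Fintype.sum_prod_type_right, Fin.sum_univ_one]
    refine Finset.sum_congr rfl fun i _ => ?_
    show bc 3 (adj V F) (uu 1 ^ (i : ℕ) * 1 ^ 0) = _
    rw [pow_zero, mul_one]
  rw [hs13] at d13
  rw [sum14 hF h2 h7] at d14
  rw [sum8 hF h2, ← fixPV4] at d8
  rw [sum52 hF h2, d13] at d52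
  simp only [Fintype.card_prod, Fintype.card_fin] at d14 d8 d52 d13
  -- elements of order 13
  have h13 : uu 1 ^ 13 = 1 := by decide +kernel
  have hne : F (uu 1) ≠ 1 := by
    intro h
    have := (hF _).1 h
    revert this
    decide +kernel
  obtain ⟨Y, ξ, hS, hT⟩ := Cfsg.Agent.H942.CB.exists_specT (V := V) F (N := 13) (by norm_num) (by norm_num) h13
  have hu : finrank (ZMod 3) ↥(fixP (rp F) PU) = 8 + 2 * cnt 13 1 0 Y := by
    rw [sumU hS] at d13
    push_cast at d13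
    have : (8 + 2 * (cnt 13 1 0 Y : ℂ)) = (finrank (ZMod 3) ↥(fixP (rp F) PU) : ℂ) := by
      linear_combination d13 / 13
    exact_mod_cast this.symm
  have hW := finrank_W2 hF
  refine ⟨⟨t2, t7, ht2, ht7, ?_, ?_, ?_⟩, ?_, ?_⟩
  · have : 14 * (finrank (ZMod 3) ↥(fixP (rp F) P14) : ℂ) = 248 + 6 * t7 + 7 * t2 := by
      push_cast at d14
      linear_combination -d14 / 2
    exact_mod_cast this
  · have h3 : 2 * (finrank (ZMod 3) ↥(fixP (rp F) (PM (uu 1) tt)) : ℂ) =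
        (finrank (ZMod 3) ↥(fixP (rp F) PU) : ℂ) + t2 := by
      push_cast at d52
      linear_combination -d52 / 26
    have h4 : 2 * (finrank (ZMod 3) ↥(fixP (rp F) (PM (uu 1) tt)) : ℤ) =
        (finrank (ZMod 3) ↥(fixP (rp F) PU) : ℤ) + t2 := by exact_mod_cast h3
    have h5 : (finrank (ZMod 3) ↥(W2 (rp F)) : ℤ) + (finrank (ZMod 3) ↥(fixP (rp F) (PM (uu 1) tt)) : ℤ) =
      (finrank (ZMod 3) ↥(fixP (rp F) PU) : ℤ) := by exact_mod_cast hW
    linarith
  · have : 4 * (finrank (ZMod 3) ↥(fixP (rp F) PV4) : ℂ) = 248 + 3 * t2 := by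
      push_cast at d8
      linear_combination -d8 / 2
    exact_mod_cast this
  · rcases Cfsg.Agent.H540.E8C.thirteen h13 hne hS hT with ⟨h | h, hp⟩ | ⟨h, hb⟩ | ⟨h, hb⟩
    · exact Or.inl ⟨Or.inl (by rw [hu, h]), hp⟩
    · exact Or.inl ⟨Or.inr (by rw [hu, h]), hp⟩
    · exact Or.inr (Or.inl ⟨by rw [hu, h], hb⟩)
    · exact Or.inr (Or.inr ⟨by rw [hu, h], hb⟩)
  · have h1 : Nat.card {v : LL // ac (F (uu 1)) v = v} = Nat.card ↥(fixP (rp F) PU) :=
      Nat.card_congr (Equiv.subtypeEquivRight fun v => (mem_fixPU (F := F) (v := v)).symm)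
    rw [h1, Module.natCard_eq_pow_finrank (K := ZMod 3), Nat.card_zmod]

end Cfsg.Agent.H775.L13
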