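import Cfsg.Agent.H540.E8C.L13.Iface2

/-!
# S5919, the row `PSL₂(13)`, task NUM13: metacyclic subgroups of `SL₂(13)`
-/

set_option autoImplicit false
set_option linter.unusedSectionVars false
set_option maxRecDepth 100000

namespace Cfsg.Agent.H775.L13

open Cfsg.Agent.H540.E8C.L13

section Meta

variable {G : Type*} [Group G]

/-- `⟨x, y⟩` is metacyclic -/
structure Meta (x y : G) (n s k m : ℕ) : Prop where
  hn : 0 < n
  hs : 0 < s
  xn : x ^ n = 1
  ys : y ^ s = x ^ m
  yx : y * x = x ^ k * y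

/-- the elements -/
def el (x y : G) (n s : ℕ) (p : Fin n × Fin s) : G := x ^ (p.1 : ℕ) * y ^ (p.2 : ℕ)

/-- membership -/
def PM (x y : G) (g : G) : Prop := ∃ i j : ℕ, g = x ^ i * y ^ j

variable {x y : G} {n s k m : ℕ} (h : Meta x y n s k m)

theorem PM_one : PM x y 1 := ⟨0, 0, by simp⟩

include h in
theorem y_xpow (i : ℕ) : y * x ^ i = x ^ (k * i) * y := by
  induction i with
  | zero => simp
  | succ i ih => rw [pow_succ, ← mul_assoc, ih, mul_assoc, h.yx, ← mul_assoc, ← pow_add, Nat.mul_succ]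

include h in
theorem ypow_xpow (i j : ℕ) : y ^ j * x ^ i = x ^ (k ^ j * i) * y ^ j := by
  induction j with
  | zero => simp
  | succ j ih =>
    rw [pow_succ', mul_assoc, ih, ← mul_assoc, y_xpow h, mul_assoc, pow_succ' k]
    congr 2
    ring

include h in
theorem PM_mul {a b : G} (ha : PM x y a) (hb : PM x y b) : PM x y (a * b) := by
  obtain ⟨i, j, rfl⟩ := ha
  obtain ⟨i', j', rfl⟩ := hb
  refine ⟨i + k ^ j * i', j + j', ?_⟩
  rw [mul_assoc, ← mul_assoc (y ^ j), ypow_xpow h, pow_add, pow_add]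
  simp only [mul_assoc]

include h in
theorem PM_iff {g : G} : PM x y g ↔ ∃ p : Fin n × Fin s, el x y n s p = g := by
  constructor
  · rintro ⟨i, j, rfl⟩
    have h1 : y ^ j = x ^ (m * (j / s)) * y ^ (j % s) := by
      conv_lhs => rw [← Nat.div_add_mod j s, pow_add, pow_mul, h.ys, ← pow_mul]
    have h2 : x ^ i * y ^ j = x ^ ((i + m * (j / s)) % n) * y ^ (j % s) := by
      rw [h1, ← mul_assoc, ← pow_add, ← pow_eq_pow_mod _ h.xn]
    exact ⟨(⟨_, Nat.mod_lt _ h.hn⟩, ⟨_, Nat.mod_lt _ h.hs⟩), h2.symm⟩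
  · rintro ⟨p, rfl⟩
    exact ⟨_, _, rfl⟩

end Meta

/-! ### The three groups -/

theorem meta14 : Meta c7 ww 14 2 13 7 := ⟨by norm_num, by norm_num, by decide +kernel, by decide +kernel, by decide +kernel⟩
theorem meta8 : Meta tt ww 4 2 3 2 := ⟨by norm_num, by norm_num, by decide +kernel, by decide +kernel, by decide +kernel⟩
theorem meta52 : Meta (uu 1) tt 13 4 12 0 :=
  ⟨by norm_num, by norm_num, by decide +kernel, by decide +kernel, by decide +kernel⟩
theorem meta13 : Meta (uu 1) 1 13 1 1 0 :=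
  ⟨by norm_num, by norm_num, by decide +kernel, by simp, by simp⟩

theorem inj14 : Function.Injective (el c7 ww 14 2) := by
  have : ∀ p q : Fin 14 × Fin 2, el c7 ww 14 2 p = el c7 ww 14 2 q → p = q := by decide +kernel
  exact fun p q => this p q

theorem inj8 : Function.Injective (el tt ww 4 2) := by
  have : ∀ p q : Fin 4 × Fin 2, el tt ww 4 2 p = el tt ww 4 2 q → p = q := by decide +kernel
  exact fun p q => this p q

theorem inj52 : Function.Injective (el (uu 1) tt 13 4) := by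
  have : ∀ p q : Fin 13 × Fin 4, el (uu 1) tt 13 4 p = el (uu 1) tt 13 4 q → p = q := by decide +kernel
  exact fun p q => this p q

theorem inj13 : Function.Injective (el (uu 1) 1 13 1) := by
  have : ∀ p q : Fin 13 × Fin 1, el (uu 1) 1 13 1 p = el (uu 1) 1 13 1 q → p = q := by decide +kernel
  exact fun p q => this p q

theorem uu_pow (n : ℕ) : uu 1 ^ n = uu n := by
  induction n with
  | zero =>
    rw [pow_zero, Nat.cast_zero]
    decide +kernel
  | succ n ih =>
    rw [pow_succ, ih]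
    apply Subtype.ext
    show !![1, (n : ZMod 13); 0, 1] * !![1, 1; 0, 1] = !![1, ((n + 1 : ℕ) : ZMod 13); 0, 1]
    ext i j
    fin_cases i <;> fin_cases j <;> simp [Matrix.mul_apply, Fin.sum_univ_two, add_comm]

theorem PU_iff {g : Q} : PU g ↔ PM (uu 1) 1 g := by
  constructor
  · rintro ⟨a, rfl⟩
    refine ⟨a.val, 0, ?_⟩
    rw [uu_pow, ZMod.natCast_zmod_val]
    simp
  · rintro ⟨i, j, rfl⟩
    refine ⟨i, ?_⟩
    rw [uu_pow]
    simp

/-! ### `P14` -/

theorem P14_c7 : P14 c7 := Or.inl (by decide +kernel)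
theorem P14_ww : P14 ww := Or.inr (by decide +kernel)

theorem P14_one : P14 1 := Or.inl (by simp)

theorem P14_mul {a b : Q} (ha : P14 a) (hb : P14 b) : P14 (a * b) := by
  unfold P14 at *
  rw [Matrix.SpecialLinearGroup.coe_mul]
  rcases ha with ha | ha <;> rcases hb with hb | hb
  · left; rw [Matrix.mul_assoc, hb, ← Matrix.mul_assoc, ha, Matrix.mul_assoc]
  · right; rw [Matrix.mul_assoc, hb, Matrix.mul_neg, ← Matrix.mul_assoc, ha, Matrix.mul_assoc]
  · right; rw [Matrix.mul_assoc, hb, ← Matrix.mul_assoc, ha, Matrix.neg_mul, Matrix.mul_assoc]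
  · left; rw [Matrix.mul_assoc, hb, Matrix.mul_neg, ← Matrix.mul_assoc, ha, Matrix.neg_mul, neg_neg, Matrix.mul_assoc]

theorem P14_pow {a : Q} (ha : P14 a) (n : ℕ) : P14 (a ^ n) := by
  induction n with
  | zero => rw [pow_zero]; exact P14_one
  | succ n ih => rw [pow_succ]; exact P14_mul ih ha

theorem enum1 : ∀ a b : ZMod 13, a * (a - 2 * b) - b * b = 1 → ∃ i : Fin 14,
    (c7 ^ (i : ℕ)).1 = !![a, b; b, a - 2 * b] := by decide +kernel

theorem enum2 : ∀ a b : ZMod 13, a * (-a) - b * (-2 * a - b) = 1 → ∃ i : Fin 14,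
    (c7 ^ (i : ℕ) * ww).1 = !![a, b; -2 * a - b, -a] := by decide +kernel

theorem P14_iff {g : Q} : P14 g ↔ PM c7 ww g := by
  constructor
  · intro h
    obtain ⟨a, ha⟩ : ∃ a, a = g.1 0 0 := ⟨_, rfl⟩
    obtain ⟨b, hb⟩ : ∃ b, b = g.1 0 1 := ⟨_, rfl⟩
    obtain ⟨c, hc⟩ : ∃ c, c = g.1 1 0 := ⟨_, rfl⟩
    obtain ⟨d, hd⟩ : ∃ d, d = g.1 1 1 := ⟨_, rfl⟩
    have hg : g.1 = !![a, b; c, d] := by
      rw [ha, hb, hc, hd]
      exact Matrix.eta_fin_two _
    have hdet : a * d - b * c = 1 := by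
      have h1 := g.2
      rw [hg, Matrix.det_fin_two_of] at h1
      exact h1
    unfold P14 at h
    rw [hg] at h
    have e1 : !![a, b; c, d] * M0 = !![a * 5 + b * 5, a * 5 + b * 8; c * 5 + d * 5, c * 5 + d * 8] := by
      ext i j
      fin_cases i <;> fin_cases j <;> simp [M0, Matrix.mul_apply, Fin.sum_univ_two]
    have e2 : M0 * !![a, b; c, d] = !![5 * a + 5 * c, 5 * b + 5 * d; 5 * a + 8 * c, 5 * b + 8 * d] := by
      ext i j
      fin_cases i <;> fin_cases j <;> simp [M0, Matrix.mul_apply, Fin.sum_univ_two]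
    have h13 : (13 : ZMod 13) = 0 := by decide
    rw [e1, e2] at h
    rcases h with h | h
    · have h00 : a * 5 + b * 5 = 5 * a + 5 * c := congrFun (congrFun h 0) 0
      have h01 : a * 5 + b * 8 = 5 * b + 5 * d := congrFun (congrFun h 0) 1
      have hcb : c = b := by linear_combination (-8) * h00 + (3 * b - 3 * c) * h13
      have hda : d = a - 2 * b := by linear_combination (-8) * h01 + (3 * a - 3 * d + b * 2) * h13
      subst hcb hda
      obtain ⟨i, hi⟩ := enum1 a c hdet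
      exact ⟨i, 0, Subtype.ext (by rw [hg, pow_zero, mul_one, hi])⟩
    · have h00 : a * 5 + b * 5 = -(5 * a + 5 * c) := congrFun (congrFun h 0) 0
      have h01 : a * 5 + b * 8 = -(5 * b + 5 * d) := congrFun (congrFun h 0) 1
      have hda : d = -a := by linear_combination 8 * h01 + (-3 * a - 3 * d - 8 * b) * h13
      have hcb : c = -2 * a - b := by linear_combination 8 * h00 + (-6 * a - 3 * b - 3 * c) * h13
      subst hcb hda
      obtain ⟨i, hi⟩ := enum2 a b hdet
      exact ⟨i, 1, Subtype.ext (by rw [hg, pow_one, hi])⟩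
  · rintro ⟨i, j, rfl⟩
    exact P14_mul (P14_pow P14_c7 _) (P14_pow P14_ww _)

end Cfsg.Agent.H775.L13
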